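import Mathlib.RingTheory.Polynomial.Basic
import Mathlib.Algebra.CharZero.Defs
import Mathlib.LinearAlgebra.Dimension.Finrank
import Mathlib.LinearAlgebra.FiniteDimensional.Lemmas
import Mathlib.RingTheory.Ideal.Span
import Mathlib.Algebra.Algebra.Bilinear
import Mathlib.RingTheory.PowerSeries.WellKnown
import Mathlib.Tactic

/-!
Small linear systems of polynomials with prescribed vanishing.
-/

open Polynomial

namespace Groth.Agent.PolySysLib

variable {k : Type*} [Field k]

/-- The multiples of `D` by polynomials of degree at most `d`. -/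
noncomputable def mults (D : k[X]) (d : ℕ) : Submodule k k[X] :=
  (Polynomial.degreeLT k (d + 1)).map (LinearMap.mulLeft k D)

theorem mem_mults {D f : k[X]} {d : ℕ} :
    f ∈ mults D d ↔ ∃ g : k[X], g.natDegree ≤ d ∧ D * g = f := by
  simp only [mults, Submodule.mem_map, LinearMap.mulLeft_apply]
  constructor
  · rintro ⟨g, hg, rfl⟩
    refine ⟨g, ?_, rfl⟩
    rw [mem_degreeLT] at hg
    by_cases h : g = 0
    · simp [h]
    · rw [degree_eq_natDegree h] at hg
      exact Nat.lt_succ_iff.mp (by exact_mod_cast hg)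
  · rintro ⟨g, hg, rfl⟩
    refine ⟨g, ?_, rfl⟩
    rw [mem_degreeLT]
    calc g.degree ≤ g.natDegree := degree_le_natDegree
      _ < _ := by exact_mod_cast Nat.lt_succ_of_le hg

theorem finrank_mults {D : k[X]} (hD : D ≠ 0) (d : ℕ) :
    Module.finrank k (mults D d) = d + 1 := by
  rw [mults, LinearEquiv.finrank_eq
    (Submodule.equivMapOfInjective _ (mul_right_injective₀ hD) _).symm,
    LinearEquiv.finrank_eq (Polynomial.degreeLTEquiv k (d + 1)), Module.finrank_fin_fun]

instance (D : k[X]) (d : ℕ) : FiniteDimensional k (mults D d) := by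
  have : FiniteDimensional k (Polynomial.degreeLT k (d + 1)) :=
    LinearEquiv.finiteDimensional (Polynomial.degreeLTEquiv k (d + 1)).symm
  unfold mults
  infer_instance

theorem inf_span_le_mults {D : k[X]} (hD : D ≠ 0) {V : Submodule k k[X]} {N d : ℕ}
    (hV : V ≤ Polynomial.degreeLE k N) (hN : N = D.natDegree + d) :
    V ⊓ (Ideal.span {D}).restrictScalars k ≤ mults D d := by
  rintro f ⟨hfV, hf⟩
  obtain ⟨g, rfl⟩ := Ideal.mem_span_singleton'.mp hf
  refine mem_mults.mpr ⟨g, ?_, mul_comm D g⟩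
  by_cases hg : g = 0
  · simp [hg]
  have h := natDegree_le_of_degree_le (mem_degreeLE.mp (hV hfV))
  rw [natDegree_mul hg hD] at h
  omega

theorem mul_mem_of_le_finrank {D : k[X]} (hD : D ≠ 0) {V : Submodule k k[X]} {N d : ℕ}
    (hV : V ≤ Polynomial.degreeLE k N) (hN : N = D.natDegree + d)
    (h : d + 1 ≤ Module.finrank k ↥(V ⊓ (Ideal.span {D}).restrictScalars k))
    {g : k[X]} (hg : g.natDegree ≤ d) : D * g ∈ V := by
  have := Submodule.eq_of_le_of_finrank_le (inf_span_le_mults hD hV hN)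
    (by rw [finrank_mults hD]; exact h)
  have hmem : D * g ∈ mults D d := mem_mults.mpr ⟨g, hg, rfl⟩
  rw [← this] at hmem
  exact hmem.1

theorem finrank_inf_span_le {D : k[X]} (hD : D ≠ 0) {V : Submodule k k[X]} {N d : ℕ}
    (hV : V ≤ Polynomial.degreeLE k N) (hN : N = D.natDegree + d) :
    Module.finrank k ↥(V ⊓ (Ideal.span {D}).restrictScalars k) ≤ d + 1 :=
  (Submodule.finrank_mono (inf_span_le_mults hD hV hN)).trans (finrank_mults hD d).le

theorem natDegree_X_sub_C_pow_mul (p q : k) (i j : ℕ) :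
    ((X - C p) ^ i * (X - C q) ^ j).natDegree = i + j := by
  rw [natDegree_mul (pow_ne_zero _ (X_sub_C_ne_zero p)) (pow_ne_zero _ (X_sub_C_ne_zero q))]
  simp

theorem three_le_finrank_iff (a i j : ℕ) (hi : 0 < i) (hj : 0 < j)
    (hij : i + j + 1 = a) (V : Submodule k k[X])
    (hV : V = Submodule.span k {(1 : k[X])} ⊔
      ((Ideal.span {(X : k[X]) * (X + 1)}).restrictScalars k ⊓
        Polynomial.degreeLE k ↑(a + 1)))
    (p q : k) :
    3 ≤ Module.finrank k ↥(V ⊓ (Ideal.span {(X - C p) ^ i * (X - C q) ^ j}).restrictScalars k) ↔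
      (p = 0 ∧ q = -1) ∨ (p = -1 ∧ q = 0) := by
  have hD0 : (X - C p) ^ i * (X - C q) ^ j ≠ 0 :=
    mul_ne_zero (pow_ne_zero _ (X_sub_C_ne_zero p)) (pow_ne_zero _ (X_sub_C_ne_zero q))
  have hdeg : a + 1 = ((X - C p) ^ i * (X - C q) ^ j).natDegree + 2 := by
    rw [natDegree_X_sub_C_pow_mul]; omega
  have hle : V ≤ Polynomial.degreeLE k ↑(a + 1) := by
    rw [hV, sup_le_iff]
    refine ⟨?_, inf_le_right⟩
    rw [Submodule.span_le, Set.singleton_subset_iff, SetLike.mem_coe, mem_degreeLE, degree_one]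
    exact Nat.cast_nonneg _
  have heval : ∀ f ∈ V, f.eval 0 = f.eval (-1) := by
    intro f hf
    rw [hV, Submodule.mem_sup] at hf
    obtain ⟨u, hu, v, ⟨hv, -⟩, rfl⟩ := hf
    obtain ⟨c, rfl⟩ := Submodule.mem_span_singleton.mp hu
    obtain ⟨F, rfl⟩ := Ideal.mem_span_singleton'.mp hv
    simp
  constructor
  · intro h
    have h0 := heval _ (mul_mem_of_le_finrank hD0 hle hdeg h (g := 1) (by simp))
    have h1 := heval _ (mul_mem_of_le_finrank hD0 hle hdeg h (g := X) (by simp))
    simp only [eval_mul, eval_pow, eval_sub, eval_X, eval_C, eval_one, mul_one, mul_zero,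
      mul_neg, zero_eq_neg] at h0 h1
    rw [h1] at h0
    rw [mul_eq_zero, pow_eq_zero_iff hi.ne', pow_eq_zero_iff hj.ne'] at h0 h1
    grind
  · intro h
    have hdvd : (X : k[X]) * (X + 1) ∣ (X - C p) ^ i * (X - C q) ^ j := by
      rcases h with ⟨rfl, rfl⟩ | ⟨rfl, rfl⟩
      · exact mul_dvd_mul (by simpa using dvd_pow_self (X : k[X]) hi.ne')
          (by simpa using dvd_pow_self (X + 1 : k[X]) hj.ne')
      · rw [mul_comm (X : k[X])]
        exact mul_dvd_mul (by simpa using dvd_pow_self (X + 1 : k[X]) hi.ne')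
          (by simpa using dvd_pow_self (X : k[X]) hj.ne')
    have hsub : mults ((X - C p) ^ i * (X - C q) ^ j) 2 ≤
        V ⊓ (Ideal.span {(X - C p) ^ i * (X - C q) ^ j}).restrictScalars k := by
      intro f hf
      obtain ⟨g, hg, rfl⟩ := mem_mults.mp hf
      refine ⟨?_, Ideal.mem_span_singleton.mpr (dvd_mul_right _ g)⟩
      rw [hV]
      refine Submodule.mem_sup_right
        ⟨Ideal.mem_span_singleton.mpr (dvd_mul_of_dvd_left hdvd g), ?_⟩
      rw [SetLike.mem_coe, mem_degreeLE]
      refine degree_le_natDegree.trans ?_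
      exact_mod_cast natDegree_mul_le.trans (by omega)
    have : FiniteDimensional k
        ↥(V ⊓ (Ideal.span {(X - C p) ^ i * (X - C q) ^ j}).restrictScalars k) :=
      Submodule.finiteDimensional_of_le (inf_span_le_mults hD0 hle hdeg)
    have := Submodule.finrank_mono hsub
    rw [finrank_mults hD0] at this
    exact this

theorem finrank_vanishing_le_one [CharZero k] (a b i : ℕ) (ha : 0 < a) (hb : 0 < b)
    (hi : 0 < i) (hiab : i < a + b) (V : Submodule k k[X])
    (hV : V = Polynomial.degreeLE k ↑(a + b - i) ⊓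
      LinearMap.ker ((Polynomial.lcoeff k a).comp (LinearMap.mulLeft k (((X : k[X]) + 1) ^ i))))
    (q : k) (hq : q ≠ 0) :
    Module.finrank k ↥(V ⊓ (Ideal.span {(X - C q) ^ (a + b - i - 1)}).restrictScalars k) ≤ 1 := by
  obtain ⟨n, hn⟩ : ∃ n, a + b - i - 1 = n := ⟨_, rfl⟩
  rw [hn]
  by_contra hcon
  have hD0 : (X - C q) ^ n ≠ 0 := pow_ne_zero _ (X_sub_C_ne_zero q)
  have hle : V ≤ Polynomial.degreeLE k ↑(n + 1) := by
    rw [hV, show a + b - i = n + 1 by omega]
    exact inf_le_left
  have hker : ∀ f ∈ V, (((X : k[X]) + 1) ^ i * f).coeff a = 0 := by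
    intro f hf
    rw [hV] at hf
    exact hf.2
  have hdeg : n + 1 = ((X - C q) ^ n).natDegree + 1 := by simp
  have h0 := hker _ (mul_mem_of_le_finrank hD0 hle hdeg (by omega) (g := 1) (by simp))
  have h1 := hker _ (mul_mem_of_le_finrank hD0 hle hdeg (by omega) (g := X) (by simp))
  obtain ⟨H, hH⟩ : ∃ H : k[X], ((X : k[X]) + C 1) ^ i * (X - C q) ^ n = H := ⟨_, rfl⟩
  obtain ⟨a', rfl⟩ : ∃ a', a = a' + 1 := ⟨a - 1, by omega⟩
  rw [mul_one, ← C_1, hH] at h0
  rw [← mul_assoc, ← C_1, hH, coeff_mul_X] at h1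
  have hmon : H.Monic := hH ▸ ((monic_X_add_C 1).pow i).mul ((monic_X_sub_C q).pow n)
  have hnat : H.natDegree = i + n := by
    rw [← hH, ((monic_X_add_C 1).pow i).natDegree_mul ((monic_X_sub_C q).pow n), natDegree_pow,
      natDegree_pow, natDegree_X_add_C, natDegree_X_sub_C, mul_one, mul_one]
  have hode : (X + C 1) * (X - C q) * derivative H
      = (C (i : k) * (X - C q) + C (n : k) * (X + C 1)) * H := by
    obtain ⟨i', rfl⟩ : ∃ i', i = i' + 1 := ⟨i - 1, by omega⟩
    rcases n with _ | n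
    · rw [← hH]; simp [derivative_mul, derivative_pow_succ]; ring
    · rw [← hH]; simp [derivative_mul, derivative_pow_succ]; ring
  have step : ∀ m : ℕ, H.coeff m = 0 → H.coeff (m + 1) = 0 → H.coeff (m + 2) = 0 := by
    intro m hm hm1
    have e := congrArg (fun P : k[X] => P.coeff (m + 1)) hode
    have e1 : (X + C 1) * (X - C q) * derivative H
        = X * (X * derivative H) + C (1 - q) * (X * derivative H) - C q * derivative H := by
      simp; ring
    have e2 : (C (i : k) * (X - C q) + C (n : k) * (X + C 1)) * H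
        = C ((i : k) + n) * (X * H) + C (-(i : k) * q + n) * H := by
      simp; ring
    rw [e1, e2] at e
    simp only [coeff_add, coeff_sub, coeff_C_mul, coeff_X_mul, coeff_derivative] at e
    rcases m with _ | m
    · simp only [coeff_X_mul_zero, coeff_derivative, zero_add, hm, hm1] at e
      have h2 : (q : k) * (H.coeff 2 * 2) = 0 := by
        push_cast at e
        linear_combination -e
      simpa [hq] using h2
    · simp only [coeff_X_mul, coeff_derivative, hm, hm1] at e
      have h2 : (q : k) * (H.coeff (m + 1 + 2) * (m + 3)) = 0 := by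
        push_cast at e
        linear_combination -e
      have hne : ((m : k) + 3) ≠ 0 := by exact_mod_cast (Nat.succ_ne_zero (m + 2))
      simpa [hq, hne] using h2
  have hz : ∀ d, H.coeff (a' + d) = 0 ∧ H.coeff (a' + d + 1) = 0 := by
    intro d
    induction d with
    | zero => exact ⟨h1, h0⟩
    | succ d ih => exact ⟨ih.2, step _ ih.1 ih.2⟩
  have htop := (hz (b - 1)).2
  rw [show a' + (b - 1) + 1 = H.natDegree by omega, hmon.coeff_natDegree] at htop
  exact one_ne_zero htop

/-- `f ↦` the `a`-th coefficient of `f / (1 - X) ^ (b + 1)`. -/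
noncomputable def res (a b : ℕ) : k[X] →ₗ[k] k :=
  (PowerSeries.coeff a) ∘ₗ
    (LinearMap.mulRight k (↑(PowerSeries.invOneSubPow k (b + 1)) : PowerSeries k)) ∘ₗ
    (Polynomial.coeToPowerSeries.algHom k).toLinearMap

theorem res_apply (a b : ℕ) (f : k[X]) :
    res a b f = PowerSeries.coeff a
      ((f : PowerSeries k) *
        ((PowerSeries.invOneSubPow k (b + 1) : (PowerSeries k)ˣ) : PowerSeries k)) := by
  simp [res, Polynomial.coeToPowerSeries.algHom_apply]

theorem res_X_pow_mul (a b : ℕ) (P : k[X]) : res a b (X ^ (a + 1) * P) = 0 := by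
  rw [res_apply, Polynomial.coe_mul, Polynomial.coe_pow, Polynomial.coe_X, mul_assoc,
    PowerSeries.coeff_X_pow_mul', if_neg (by omega)]

theorem res_sub_one_pow_mul (a b : ℕ) {Q : k[X]} (hQ : Q.coeff a = 0) :
    res a b ((X - 1) ^ (b + 1) * Q) = 0 := by
  have e : (((X - 1) ^ (b + 1) : k[X]) : PowerSeries k)
      = (-1) ^ (b + 1) * (1 - PowerSeries.X) ^ (b + 1) := by
    rw [← mul_pow, Polynomial.coe_pow, Polynomial.coe_sub, Polynomial.coe_X, Polynomial.coe_one]
    congr 1
    ring
  have h := (PowerSeries.invOneSubPow k (b + 1)).inv_val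
  rw [← PowerSeries.invOneSubPow_inv_eq_one_sub_pow, Units.inv_eq_val_inv] at e
  rw [res_apply, Polynomial.coe_mul, e, mul_comm _ (Q : PowerSeries k), mul_assoc, mul_assoc,
    Units.inv_mul, mul_one, ← mul_comm ((-1) ^ (b + 1)),
    show ((-1 : PowerSeries k)) ^ (b + 1) = PowerSeries.C ((-1 : k) ^ (b + 1)) by simp,
    PowerSeries.coeff_C_mul, Polynomial.coeff_coe, hQ, mul_zero]

theorem res_X_pow_mul_X_sub_C_pow (a b i M : ℕ) (hi : i ≤ a) (hM : i + M = a + b) (q : k) :
    res a b (X ^ i * (X - C q) ^ M)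
      = (M.choose b : k) * (-q) ^ b * (1 - q) ^ (a - i) := by
  rw [res_apply, Polynomial.coe_mul, Polynomial.coe_pow, Polynomial.coe_X, mul_assoc,
    PowerSeries.coeff_X_pow_mul', if_pos hi, PowerSeries.coeff_mul,
    Finset.Nat.sum_antidiagonal_eq_sum_range_succ_mk,
    sub_eq_add_neg (1 : k) q, add_pow, Finset.mul_sum]
  refine Finset.sum_congr rfl fun l hl => ?_
  rw [Finset.mem_range] at hl
  rw [Polynomial.coeff_coe, sub_eq_add_neg, ← C_neg, coeff_X_add_C_pow, one_pow, one_mul,
    PowerSeries.invOneSubPow_val_succ_eq_mk_add_choose, PowerSeries.coeff_mk]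
  rw [show b + (a - i - l) = M - l by omega, show M - l = b + (a - i - l) by omega, pow_add]
  have hnat : M.choose l * (b + (a - i - l)).choose b = M.choose b * (a - i).choose l := by
    have h := Nat.choose_mul (n := M) (k := b + (a - i - l)) (s := b) (by omega)
    rw [← Nat.choose_symm (show l ≤ M by omega), show M - l = b + (a - i - l) by omega, h,
      show M - b = a - i by omega, show b + (a - i - l) - b = a - i - l by omega,
      Nat.choose_symm (show l ≤ a - i by omega)]
  have hk : (M.choose l : k) * ((b + (a - i - l)).choose b : k)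
      = (M.choose b : k) * ((a - i).choose l : k) := by rw [← Nat.cast_mul, ← Nat.cast_mul, hnat]
  linear_combination ((-q) ^ b * (-q) ^ (a - i - l)) * hk

theorem le_of_prescribed [CharZero k] (a b i j : ℕ) (ha : 0 < a) (hb : 0 < b) (hi : 0 < i)
    (hiab : i ≤ a + b) (hj : i + j = a + b + 2) (V : Submodule k k[X])
    (hV : V = ((Ideal.span {(X : k[X]) ^ (a + 1)}).restrictScalars k ⊓
        Polynomial.degreeLE k ↑(a + b)) ⊔
      ((Ideal.span {((X : k[X]) - 1) ^ (b + 1)}).restrictScalars k ⊓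
        Polynomial.degreeLE k ↑(a + b)) ⊔
      Submodule.span k {(X : k[X]) ^ (a + 1) * (X - 1) ^ (b + 1)})
    (q : k)
    (h1 : 1 ≤ Module.finrank k
      ↥(V ⊓ (Ideal.span {(X : k[X]) ^ i * (X - C q) ^ j}).restrictScalars k))
    (h2 : 2 ≤ Module.finrank k
      ↥(V ⊓ (Ideal.span {(X : k[X]) ^ (i - 1) * (X - C q) ^ (j - 1)}).restrictScalars k)) :
    a + 1 ≤ i := by
  by_contra hia
  have hD0n : ((X : k[X]) ^ (a + 1) * (X - 1) ^ (b + 1)).natDegree = a + b + 2 := by
    rw [← C_1, natDegree_mul (pow_ne_zero _ X_ne_zero) (pow_ne_zero _ (X_sub_C_ne_zero 1)),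
      natDegree_pow, natDegree_pow, natDegree_X, natDegree_X_sub_C]
    omega
  -- properties of members of `V`
  have hmem : ∀ f ∈ V, f.natDegree ≤ a + b + 2 ∧
      f.coeff (a + b + 1) + ((b : k) + 1) * f.coeff (a + b + 2) = 0 ∧ res a b f = 0 := by
    let L1 : k[X] →ₗ[k] k :=
      Polynomial.lcoeff k (a + b + 1) + ((b : k) + 1) • Polynomial.lcoeff k (a + b + 2)
    have hle : V ≤ Polynomial.degreeLE k ↑(a + b + 2) ⊓ LinearMap.ker L1
        ⊓ LinearMap.ker (res a b) := by
      have low : Polynomial.degreeLE k ↑(a + b) ≤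
          Polynomial.degreeLE k ↑(a + b + 2) ⊓ LinearMap.ker L1 := by
        intro f hf
        have hf' := mem_degreeLE.mp hf
        have hn := natDegree_le_of_degree_le hf'
        refine ⟨mem_degreeLE.mpr (hf'.trans (Nat.cast_le.mpr (by omega))), ?_⟩
        simp [L1, coeff_eq_zero_of_natDegree_lt (show f.natDegree < a + b + 1 by omega),
          coeff_eq_zero_of_natDegree_lt (show f.natDegree < a + b + 2 by omega)]
      rw [hV]
      refine sup_le (sup_le ?_ ?_) ?_
      · rintro f ⟨hf, hfd⟩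
        refine ⟨low hfd, ?_⟩
        obtain ⟨P, rfl⟩ := Ideal.mem_span_singleton'.mp hf
        rw [SetLike.mem_coe, LinearMap.mem_ker, mul_comm, res_X_pow_mul]
      · rintro f ⟨hf, hfd⟩
        refine ⟨low hfd, ?_⟩
        obtain ⟨Q, rfl⟩ := Ideal.mem_span_singleton'.mp hf
        rw [SetLike.mem_coe, LinearMap.mem_ker, mul_comm]
        refine res_sub_one_pow_mul a b ?_
        by_cases hQ : Q = 0
        · simp [hQ]
        apply coeff_eq_zero_of_natDegree_lt
        have h := natDegree_le_of_degree_le (mem_degreeLE.mp hfd)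
        rw [← C_1, natDegree_mul hQ (pow_ne_zero _ (X_sub_C_ne_zero 1)), natDegree_pow,
          natDegree_X_sub_C] at h
        omega
      · rw [Submodule.span_le, Set.singleton_subset_iff]
        refine ⟨⟨mem_degreeLE.mpr (degree_le_natDegree.trans ?_), ?_⟩, ?_⟩
        · rw [hD0n]
        · simp only [SetLike.mem_coe, LinearMap.mem_ker, L1, LinearMap.add_apply,
            LinearMap.smul_apply, lcoeff_apply, smul_eq_mul]
          rw [show a + b + 1 = b + (a + 1) by omega, show a + b + 2 = (b + 1) + (a + 1) by omega,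
            coeff_X_pow_mul, coeff_X_pow_mul, sub_eq_add_neg, ← C_1, ← C_neg,
            coeff_X_add_C_pow, coeff_X_add_C_pow]
          simp
        · simp [res_X_pow_mul]
    intro f hf
    obtain ⟨⟨hd, hl⟩, hr⟩ := hle hf
    refine ⟨natDegree_le_of_degree_le (mem_degreeLE.mp hd), ?_, hr⟩
    simpa [L1] using hl
  have hVle : V ≤ Polynomial.degreeLE k ↑(a + b + 2) := fun f hf =>
    mem_degreeLE.mpr (degree_le_natDegree.trans (Nat.cast_le.mpr (hmem f hf).1))
  -- the first condition
  have hjq : (j : k) * q = (b : k) + 1 := by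
    have hD : (X : k[X]) ^ i * (X - C q) ^ j ≠ 0 :=
      mul_ne_zero (pow_ne_zero _ X_ne_zero) (pow_ne_zero _ (X_sub_C_ne_zero q))
    have hn : a + b + 2 = ((X : k[X]) ^ i * (X - C q) ^ j).natDegree + 0 := by
      rw [natDegree_mul (pow_ne_zero _ X_ne_zero) (pow_ne_zero _ (X_sub_C_ne_zero q))]
      simp; omega
    have h := (hmem _ (mul_mem_of_le_finrank hD hVle hn h1 (g := 1) (by simp))).2.1
    obtain ⟨j', rfl⟩ : ∃ j', j = j' + 1 := ⟨j - 1, by omega⟩
    rw [mul_one, show a + b + 1 = j' + i by omega, show a + b + 2 = (j' + 1) + i by omega,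
      coeff_X_pow_mul, coeff_X_pow_mul, sub_eq_add_neg, ← C_neg, coeff_X_add_C_pow,
      coeff_X_add_C_pow] at h
    simp at h
    push_cast
    linear_combination -h
  -- the second condition
  obtain ⟨D, hD⟩ : ∃ D : k[X], (X : k[X]) ^ (i - 1) * (X - C q) ^ (j - 1) = D := ⟨_, rfl⟩
  rw [hD] at h2
  have hD' : D ≠ 0 := hD ▸
    mul_ne_zero (pow_ne_zero _ X_ne_zero) (pow_ne_zero _ (X_sub_C_ne_zero q))
  have hDn : a + b + 2 = D.natDegree + 2 := by
    rw [← hD, natDegree_mul (pow_ne_zero _ X_ne_zero) (pow_ne_zero _ (X_sub_C_ne_zero q))]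
    simp; omega
  obtain ⟨f, hf0, hfW⟩ : ∃ f : k[X], f ≠ 0 ∧ f.coeff (a + b + 2) = 0 ∧
      f ∈ V ⊓ (Ideal.span {D}).restrictScalars k := by
    by_contra hcon
    have hinj : Function.Injective ((Polynomial.lcoeff k (a + b + 2)).comp
        (V ⊓ (Ideal.span {D}).restrictScalars k).subtype) := by
      rw [← LinearMap.ker_eq_bot, LinearMap.ker_eq_bot']
      intro f hf
      by_contra h0
      exact hcon ⟨f, fun h => h0 (Subtype.ext h), hf, f.2⟩
    have := LinearMap.finrank_le_finrank_of_injective hinj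
    rw [Module.finrank_self] at this
    omega
  obtain ⟨hfc, hfV, hfD⟩ := hfW
  obtain ⟨g, rfl⟩ := Ideal.mem_span_singleton'.mp hfD
  obtain ⟨hd, hl, hr⟩ := hmem _ hfV
  rw [hfc, mul_zero, add_zero] at hl
  have hg : g ≠ 0 := left_ne_zero_of_mul hf0
  have hlc : (g * D).coeff (g * D).natDegree ≠ 0 := leadingCoeff_ne_zero.mpr hf0
  have hd' : (g * D).natDegree ≤ a + b := by
    rcases Nat.lt_or_ge (a + b) (g * D).natDegree with h | h
    · exfalso
      obtain h | h : (g * D).natDegree = a + b + 1 ∨ (g * D).natDegree = a + b + 2 := by omega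
      · exact hlc (h ▸ hl)
      · exact hlc (h ▸ hfc)
    · exact h
  rw [natDegree_mul hg hD'] at hd'
  obtain ⟨c, rfl⟩ : ∃ c, g = C c := ⟨_, eq_C_of_natDegree_eq_zero (by omega)⟩
  have hc : c ≠ 0 := fun h => hg (by simp [h])
  rw [← smul_eq_C_mul, map_smul, smul_eq_mul, mul_eq_zero, or_iff_right hc, ← hD,
    res_X_pow_mul_X_sub_C_pow a b (i - 1) (j - 1) (by omega) (by omega) q] at hr
  have hb1 : ((b : k) + 1) ≠ 0 := Nat.cast_add_one_ne_zero b
  have hq : q ≠ 0 := by rintro rfl; rw [mul_zero] at hjq; exact hb1 hjq.symm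
  have hq1 : 1 - q ≠ 0 := by
    intro h
    rw [← sub_eq_zero.mp h, mul_one] at hjq
    have : j = b + 1 := by exact_mod_cast hjq
    omega
  have hch : ((j - 1).choose b : k) ≠ 0 :=
    Nat.cast_ne_zero.mpr (Nat.choose_pos (by omega)).ne'
  simp [hq, hq1, hch] at hr

end Groth.Agent.PolySysLib
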